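import Mathlib.Data.List.Basic

/-!
For each root of `F₄`, the pairs `(c, t)` such that the root element adds basis vector `t` to the image of
basis vector `c`, modulo two.
-/

set_option autoImplicit false

namespace CfsgLib.TitsCover

/-- The table. -/
def tb : List (List (ℕ × ℕ)) :=
  [[(3, 4), (28, 5), (30, 6), (33, 7), (35, 8), (36, 9), (40, 11), (42, 12), (43, 13), (44, 15), (46, 19), (47, 20), (48, 22), (49, 25), (50, 27), (51, 0), (51, 2), (51, 4)],
    [(2, 5), (3, 5), (27, 4), (29, 6), (32, 7), (34, 8), (36, 10), (39, 11), (41, 12), (43, 14), (44, 16), (45, 19), (47, 21), (48, 23), (49, 26), (50, 0), (50, 2), (50, 3), (50, 5), (51, 28)],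
    [(2, 6), (25, 4), (26, 5), (31, 7), (34, 9), (35, 10), (38, 11), (41, 13), (42, 14), (44, 17), (45, 20), (46, 21), (48, 24), (49, 0), (49, 3), (49, 6), (50, 29), (51, 30)],
    [(0, 7), (37, 11), (38, 12), (39, 13), (40, 14), (41, 15), (42, 16), (43, 17), (44, 18), (45, 4), (45, 22), (46, 5), (46, 23), (47, 6), (47, 24), (48, 1), (48, 7), (49, 8), (49, 31), (50, 9), (50, 32), (51, 10), (51, 33)],
    [(2, 8), (20, 4), (21, 5), (24, 7), (29, 9), (30, 10), (37, 12), (39, 15), (40, 16), (43, 18), (45, 25), (46, 26), (47, 0), (47, 1), (47, 3), (47, 8), (48, 31), (50, 34), (51, 35)],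
    [(2, 9), (3, 9), (19, 4), (21, 6), (23, 7), (26, 8), (28, 10), (37, 13), (38, 15), (40, 17), (42, 18), (45, 27), (46, 0), (46, 1), (46, 2), (46, 3), (46, 9), (47, 29), (48, 32), (49, 34), (51, 36)],
    [(3, 10), (19, 5), (20, 6), (22, 7), (25, 8), (27, 9), (37, 14), (38, 16), (39, 17), (41, 18), (45, 0), (45, 1), (45, 2), (45, 10), (46, 28), (47, 30), (48, 33), (49, 35), (50, 36)],
    [(0, 11), (1, 11), (18, 7), (31, 12), (32, 13), (33, 14), (34, 4), (34, 15), (35, 5), (35, 16), (36, 6), (36, 17), (41, 22), (42, 23), (43, 24), (44, 0), (44, 1), (44, 11), (48, 37), (49, 19), (49, 38), (50, 20), (50, 39), (51, 21), (51, 40)],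
    [(1, 12), (2, 12), (17, 7), (24, 11), (29, 4), (29, 13), (30, 5), (30, 14), (32, 15), (33, 16), (36, 8), (36, 18), (39, 22), (40, 23), (43, 0), (43, 12), (44, 31), (47, 19), (47, 37), (48, 38), (50, 25), (50, 41), (51, 26), (51, 42)],
    [(1, 13), (2, 13), (3, 13), (16, 7), (23, 11), (26, 4), (26, 12), (28, 6), (28, 14), (31, 15), (33, 17), (35, 9), (35, 18), (38, 22), (40, 24), (42, 0), (42, 13), (44, 32), (46, 20), (46, 37), (48, 39), (49, 27), (49, 41), (51, 29), (51, 43)],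
    [(1, 14), (3, 14), (15, 7), (22, 11), (25, 5), (25, 12), (27, 6), (27, 13), (31, 16), (32, 17), (34, 10), (34, 18), (38, 23), (39, 24), (41, 0), (41, 14), (44, 33), (45, 21), (45, 37), (48, 40), (49, 28), (49, 42), (50, 30), (50, 43)],
    [(0, 15), (1, 15), (3, 15), (14, 7), (21, 4), (21, 11), (23, 12), (24, 13), (28, 8), (28, 16), (30, 9), (30, 17), (33, 18), (37, 22), (40, 0), (40, 1), (40, 15), (42, 31), (43, 32), (46, 25), (46, 38), (47, 27), (47, 39), (48, 41), (51, 34), (51, 44)],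
    [(0, 16), (1, 16), (2, 16), (3, 16), (13, 7), (20, 5), (20, 11), (22, 12), (24, 14), (27, 8), (27, 15), (29, 10), (29, 17), (32, 18), (37, 23), (39, 0), (39, 1), (39, 16), (41, 31), (43, 33), (45, 26), (45, 38), (47, 28), (47, 40), (48, 42), (50, 35), (50, 44)],
    [(0, 17), (1, 17), (2, 17), (12, 7), (19, 6), (19, 11), (22, 13), (23, 14), (25, 9), (25, 15), (26, 10), (26, 16), (31, 18), (37, 24), (38, 0), (38, 1), (38, 17), (41, 32), (42, 33), (45, 29), (45, 39), (46, 30), (46, 40), (48, 43), (49, 36), (49, 44)],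
    [(1, 18), (11, 7), (19, 8), (19, 12), (20, 9), (20, 13), (21, 10), (21, 14), (22, 15), (23, 16), (24, 17), (37, 0), (37, 18), (38, 31), (39, 32), (40, 33), (45, 34), (45, 41), (46, 35), (46, 42), (47, 36), (47, 43), (48, 44)],
    [(2, 19), (9, 4), (10, 5), (17, 11), (18, 12), (29, 20), (30, 21), (32, 22), (33, 23), (34, 25), (35, 26), (36, 1), (36, 3), (36, 19), (43, 37), (44, 38), (50, 45), (51, 46)],
    [(2, 20), (3, 20), (8, 4), (10, 6), (16, 11), (18, 13), (26, 19), (28, 21), (31, 22), (33, 24), (34, 27), (35, 1), (35, 2), (35, 3), (35, 20), (36, 29), (42, 37), (44, 39), (49, 45), (51, 47)],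
    [(3, 21), (8, 5), (9, 6), (15, 11), (18, 14), (25, 19), (27, 20), (31, 23), (32, 24), (34, 1), (34, 2), (34, 21), (35, 28), (36, 30), (41, 37), (44, 40), (49, 46), (50, 47)],
    [(0, 22), (3, 22), (10, 4), (10, 7), (14, 11), (16, 12), (17, 13), (18, 15), (28, 19), (28, 23), (30, 20), (30, 24), (33, 1), (33, 22), (35, 25), (35, 31), (36, 27), (36, 32), (40, 37), (42, 38), (43, 39), (44, 41), (51, 45), (51, 48)],
    [(0, 23), (2, 23), (3, 23), (9, 5), (9, 7), (13, 11), (15, 12), (17, 14), (18, 16), (27, 19), (27, 22), (29, 21), (29, 24), (32, 1), (32, 23), (34, 26), (34, 31), (36, 28), (36, 33), (39, 37), (41, 38), (43, 40), (44, 42), (50, 46), (50, 48)],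
    [(0, 24), (2, 24), (8, 6), (8, 7), (12, 11), (15, 13), (16, 14), (18, 17), (25, 20), (25, 22), (26, 21), (26, 23), (31, 1), (31, 24), (34, 29), (34, 32), (35, 30), (35, 33), (38, 37), (41, 39), (42, 40), (44, 43), (49, 47), (49, 48)],
    [(2, 25), (3, 25), (6, 4), (10, 8), (14, 12), (17, 15), (21, 19), (24, 22), (28, 26), (29, 27), (30, 2), (30, 3), (30, 25), (33, 31), (36, 34), (40, 38), (43, 41), (47, 45), (51, 49)],
    [(3, 26), (6, 5), (9, 8), (13, 12), (17, 16), (20, 19), (24, 23), (27, 25), (29, 2), (29, 26), (30, 28), (32, 31), (36, 35), (39, 38), (43, 42), (47, 46), (50, 49)],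
    [(2, 27), (5, 4), (10, 9), (14, 13), (16, 15), (21, 20), (23, 22), (26, 25), (28, 3), (28, 27), (30, 29), (33, 32), (35, 34), (40, 39), (42, 41), (46, 45), (51, 50)],
    [(2, 28), (4, 5), (9, 10), (13, 14), (15, 16), (20, 21), (22, 23), (25, 26), (27, 3), (27, 28), (29, 30), (32, 33), (34, 35), (39, 40), (41, 42), (45, 46), (50, 51)],
    [(3, 29), (5, 6), (8, 9), (12, 13), (16, 17), (19, 20), (23, 24), (25, 27), (26, 2), (26, 29), (28, 30), (31, 32), (35, 36), (38, 39), (42, 43), (46, 47), (49, 50)],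
    [(2, 30), (3, 30), (4, 6), (8, 10), (12, 14), (15, 17), (19, 21), (22, 24), (25, 2), (25, 3), (25, 30), (26, 28), (27, 29), (31, 33), (34, 36), (38, 40), (41, 43), (45, 47), (49, 51)],
    [(0, 31), (2, 31), (6, 7), (6, 8), (11, 12), (13, 15), (14, 16), (17, 18), (20, 22), (20, 25), (21, 23), (21, 26), (24, 1), (24, 31), (29, 32), (29, 34), (30, 33), (30, 35), (37, 38), (39, 41), (40, 42), (43, 44), (47, 48), (47, 49)],
    [(0, 32), (2, 32), (3, 32), (5, 7), (5, 9), (11, 13), (12, 15), (14, 17), (16, 18), (19, 22), (19, 27), (21, 24), (21, 29), (23, 1), (23, 32), (26, 31), (26, 34), (28, 33), (28, 36), (37, 39), (38, 41), (40, 43), (42, 44), (46, 48), (46, 50)],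
    [(0, 33), (3, 33), (4, 7), (4, 10), (11, 14), (12, 16), (13, 17), (15, 18), (19, 23), (19, 28), (20, 24), (20, 30), (22, 1), (22, 33), (25, 31), (25, 35), (27, 32), (27, 36), (37, 40), (38, 42), (39, 43), (41, 44), (45, 48), (45, 51)],
    [(3, 34), (5, 8), (6, 9), (11, 15), (14, 18), (19, 25), (20, 27), (21, 1), (21, 2), (21, 34), (23, 31), (24, 32), (28, 35), (30, 36), (37, 41), (40, 44), (46, 49), (47, 50)],
    [(2, 35), (3, 35), (4, 8), (6, 10), (11, 16), (13, 18), (19, 26), (20, 1), (20, 2), (20, 3), (20, 35), (21, 28), (22, 31), (24, 33), (27, 34), (29, 36), (37, 42), (39, 44), (45, 49), (47, 51)],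
    [(2, 36), (4, 9), (5, 10), (11, 17), (12, 18), (19, 1), (19, 3), (19, 36), (20, 29), (21, 30), (22, 32), (23, 33), (25, 34), (26, 35), (37, 43), (38, 44), (45, 50), (46, 51)],
    [(1, 37), (7, 11), (8, 12), (8, 19), (9, 13), (9, 20), (10, 14), (10, 21), (15, 22), (16, 23), (17, 24), (18, 0), (18, 37), (31, 38), (32, 39), (33, 40), (34, 41), (34, 45), (35, 42), (35, 46), (36, 43), (36, 47), (44, 48)],
    [(0, 38), (1, 38), (2, 38), (6, 11), (6, 19), (7, 12), (9, 15), (9, 25), (10, 16), (10, 26), (13, 22), (14, 23), (17, 0), (17, 1), (17, 38), (18, 31), (24, 37), (29, 39), (29, 45), (30, 40), (30, 46), (32, 41), (33, 42), (36, 44), (36, 49), (43, 48)],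
    [(0, 39), (1, 39), (2, 39), (3, 39), (5, 11), (5, 20), (7, 13), (8, 15), (8, 27), (10, 17), (10, 29), (12, 22), (14, 24), (16, 0), (16, 1), (16, 39), (18, 32), (23, 37), (26, 38), (26, 45), (28, 40), (28, 47), (31, 41), (33, 43), (35, 44), (35, 50), (42, 48)],
    [(0, 40), (1, 40), (3, 40), (4, 11), (4, 21), (7, 14), (8, 16), (8, 28), (9, 17), (9, 30), (12, 23), (13, 24), (15, 0), (15, 1), (15, 40), (18, 33), (22, 37), (25, 38), (25, 46), (27, 39), (27, 47), (31, 42), (32, 43), (34, 44), (34, 51), (41, 48)],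
    [(1, 41), (3, 41), (5, 12), (5, 25), (6, 13), (6, 27), (7, 15), (10, 18), (10, 34), (11, 22), (14, 0), (14, 41), (16, 31), (17, 32), (21, 37), (21, 45), (23, 38), (24, 39), (28, 42), (28, 49), (30, 43), (30, 50), (33, 44), (40, 48)],
    [(1, 42), (2, 42), (3, 42), (4, 12), (4, 26), (6, 14), (6, 28), (7, 16), (9, 18), (9, 35), (11, 23), (13, 0), (13, 42), (15, 31), (17, 33), (20, 37), (20, 46), (22, 38), (24, 40), (27, 41), (27, 49), (29, 43), (29, 51), (32, 44), (39, 48)],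
    [(1, 43), (2, 43), (4, 13), (4, 29), (5, 14), (5, 30), (7, 17), (8, 18), (8, 36), (11, 24), (12, 0), (12, 43), (15, 32), (16, 33), (19, 37), (19, 47), (22, 39), (23, 40), (25, 41), (25, 50), (26, 42), (26, 51), (31, 44), (38, 48)],
    [(0, 44), (1, 44), (4, 15), (4, 34), (5, 16), (5, 35), (6, 17), (6, 36), (7, 18), (11, 0), (11, 1), (11, 44), (12, 31), (13, 32), (14, 33), (19, 38), (19, 49), (20, 39), (20, 50), (21, 40), (21, 51), (22, 41), (23, 42), (24, 43), (37, 48)],
    [(3, 45), (5, 19), (6, 20), (7, 22), (8, 25), (9, 27), (10, 0), (10, 1), (10, 2), (10, 45), (14, 37), (16, 38), (17, 39), (18, 41), (28, 46), (30, 47), (33, 48), (35, 49), (36, 50)],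
    [(2, 46), (3, 46), (4, 19), (6, 21), (7, 23), (8, 26), (9, 0), (9, 1), (9, 2), (9, 3), (9, 46), (10, 28), (13, 37), (15, 38), (17, 40), (18, 42), (27, 45), (29, 47), (32, 48), (34, 49), (36, 51)],
    [(2, 47), (4, 20), (5, 21), (7, 24), (8, 0), (8, 1), (8, 3), (8, 47), (9, 29), (10, 30), (12, 37), (15, 39), (16, 40), (18, 43), (25, 45), (26, 46), (31, 48), (34, 50), (35, 51)],
    [(0, 48), (4, 22), (4, 45), (5, 23), (5, 46), (6, 24), (6, 47), (7, 1), (7, 48), (8, 31), (8, 49), (9, 32), (9, 50), (10, 33), (10, 51), (11, 37), (12, 38), (13, 39), (14, 40), (15, 41), (16, 42), (17, 43), (18, 44)],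
    [(2, 49), (4, 25), (5, 26), (6, 0), (6, 3), (6, 49), (7, 31), (9, 34), (10, 35), (11, 38), (13, 41), (14, 42), (17, 44), (20, 45), (21, 46), (24, 48), (29, 50), (30, 51)],
    [(2, 50), (3, 50), (4, 27), (5, 0), (5, 2), (5, 3), (5, 50), (6, 29), (7, 32), (8, 34), (10, 36), (11, 39), (12, 41), (14, 43), (16, 44), (19, 45), (21, 47), (23, 48), (26, 49), (28, 51)],
    [(3, 51), (4, 0), (4, 2), (4, 51), (5, 28), (6, 30), (7, 33), (8, 35), (9, 36), (11, 40), (12, 42), (13, 43), (15, 44), (19, 46), (20, 47), (22, 48), (25, 49), (27, 50)]]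

end CfsgLib.TitsCover
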